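import Cfsg.Agent.Comp.Defs

set_option autoImplicit false
set_option maxRecDepth 1000000
set_option maxHeartbeats 0
set_option Elab.async false

namespace CF.Recog.U43

open CF.Comp

noncomputable def NA_0 : Net := (Net.cons (nat_lit 1) (nat_lit 1088) (Net.cons (nat_lit 2) (nat_lit 8976) (Net.cons (nat_lit 8) (nat_lit 204) (Net.cons (nat_lit 4) (nat_lit 768) (Net.cons (nat_lit 2) (nat_lit 4896) (Net.cons (nat_lit 1) (nat_lit 20757) Net.nil))))))
noncomputable def NA_1 : Net := (Net.cons (nat_lit 1) (nat_lit 68) (Net.cons (nat_lit 2) (nat_lit 32) (Net.cons (nat_lit 4) (nat_lit 518) (Net.cons (nat_lit 2) (nat_lit 35) (Net.cons (nat_lit 1) (nat_lit 1041) Net.nil)))))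
noncomputable def NA_2 : Net := (Net.cons (nat_lit 1) (nat_lit 1088) (Net.cons (nat_lit 2) (nat_lit 816) (Net.cons (nat_lit 4) (nat_lit 256) (Net.cons (nat_lit 8) (nat_lit 150) (Net.cons (nat_lit 4) (nat_lit 2048) (Net.cons (nat_lit 2) (nat_lit 12291) (Net.cons (nat_lit 1) (nat_lit 20757) Net.nil)))))))
noncomputable def NA_3 : Net := (Net.cons (nat_lit 1) (nat_lit 5188) (Net.cons (nat_lit 2) (nat_lit 4608) (Net.cons (nat_lit 4) (nat_lit 2048) (Net.cons (nat_lit 8) (nat_lit 198) (Net.cons (nat_lit 4) (nat_lit 2059) (Net.cons (nat_lit 2) (nat_lit 4130) (Net.cons (nat_lit 1) (nat_lit 5188) Net.nil)))))))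
noncomputable def NA_4 : Net := (Net.cons (nat_lit 1) (nat_lit 1284) (Net.cons (nat_lit 2) (nat_lit 12336) (Net.cons (nat_lit 4) (nat_lit 1280) (Net.cons (nat_lit 8) (nat_lit 52) (Net.cons (nat_lit 4) (nat_lit 3079) (Net.cons (nat_lit 2) (nat_lit 4898) (Net.cons (nat_lit 1) (nat_lit 17425) Net.nil)))))))
noncomputable def NA_5 : Net := (Net.cons (nat_lit 1) (nat_lit 4) (Net.cons (nat_lit 8) (nat_lit 34) (Net.cons (nat_lit 4) (nat_lit 2304) (Net.cons (nat_lit 2) (nat_lit 290) (Net.cons (nat_lit 1) (nat_lit 16388) Net.nil)))))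
noncomputable def NA_6 : Net := (Net.cons (nat_lit 1) (nat_lit 4420) (Net.cons (nat_lit 2) (nat_lit 12288) (Net.cons (nat_lit 4) (nat_lit 1280) (Net.cons (nat_lit 8) (nat_lit 28) (Net.cons (nat_lit 4) (nat_lit 1799) (Net.cons (nat_lit 2) (nat_lit 12563) (Net.cons (nat_lit 1) (nat_lit 21776) Net.nil)))))))
noncomputable def NA : List Net := [NA_0, NA_1, NA_2, NA_3, NA_4, NA_5, NA_6]
noncomputable def NA1_0 : Net := (Net.cons (nat_lit 1) (nat_lit 16404) (Net.cons (nat_lit 2) (nat_lit 4864) (Net.cons (nat_lit 4) (nat_lit 512) (Net.cons (nat_lit 8) (nat_lit 206) (Net.cons (nat_lit 4) (nat_lit 2822) (Net.cons (nat_lit 2) (nat_lit 12832) (Net.cons (nat_lit 1) (nat_lit 16704) Net.nil)))))))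
noncomputable def NA1_1 : Net := (Net.cons (nat_lit 1) (nat_lit 1360) (Net.cons (nat_lit 2) (nat_lit 272) (Net.cons (nat_lit 8) (nat_lit 18) (Net.cons (nat_lit 4) (nat_lit 3076) (Net.cons (nat_lit 2) (nat_lit 8210) (Net.cons (nat_lit 1) (nat_lit 1280) Net.nil))))))
noncomputable def NA1_2 : Net := (Net.cons (nat_lit 1) (nat_lit 21584) (Net.cons (nat_lit 2) (nat_lit 4128) (Net.cons (nat_lit 4) (nat_lit 1024) (Net.cons (nat_lit 8) (nat_lit 80) (Net.cons (nat_lit 4) (nat_lit 264) (Net.cons (nat_lit 2) (nat_lit 12560) (Net.cons (nat_lit 1) (nat_lit 80) Net.nil)))))))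
noncomputable def NA1_3 : Net := (Net.cons (nat_lit 1) (nat_lit 272) (Net.cons (nat_lit 2) (nat_lit 12544) (Net.cons (nat_lit 4) (nat_lit 1792) (Net.cons (nat_lit 8) (nat_lit 188) (Net.cons (nat_lit 4) (nat_lit 2052) (Net.cons (nat_lit 2) (nat_lit 4144) (Net.cons (nat_lit 1) (nat_lit 16468) Net.nil)))))))
noncomputable def NA1 : List Net := [NA1_0, NA1_1, NA1_2, NA1_3]
noncomputable def SA : List (List Nat) := [[(nat_lit 4), (nat_lit 6), (nat_lit 12), (nat_lit 12), (nat_lit 3), (nat_lit 9), (nat_lit 3), (nat_lit 13)],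
  [(nat_lit 6), (nat_lit 14), (nat_lit 9), (nat_lit 9), (nat_lit 9), (nat_lit 1), (nat_lit 10)],
  [(nat_lit 15), (nat_lit 17), (nat_lit 17), (nat_lit 16), (nat_lit 17), (nat_lit 15), (nat_lit 17), (nat_lit 15), (nat_lit 17)],
  [(nat_lit 17), (nat_lit 16), (nat_lit 16), (nat_lit 16), (nat_lit 18), (nat_lit 15)]]
noncomputable def CA : List Lvl := [⟨(nat_lit 0), [[(nat_lit 1)],
  [(nat_lit 3)],
  [(nat_lit 5)],
  [(nat_lit 7)],
  [(nat_lit 9)],
  [(nat_lit 11)],
  [(nat_lit 13)]], (nat_lit 1)⟩,
  ⟨(nat_lit 1), [[(nat_lit 15)],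
  [(nat_lit 17)]], (nat_lit 3)⟩,
  ⟨(nat_lit 2), [[(nat_lit 19)],
  [(nat_lit 21)]], (nat_lit 4)⟩,
  ⟨(nat_lit 3), [[(nat_lit 19)]], (nat_lit 2)⟩]
noncomputable def NB_0 : Net := (Net.cons (nat_lit 1) (nat_lit 4112) (Net.cons (nat_lit 2) (nat_lit 13056) (Net.cons (nat_lit 4) (nat_lit 2048) (Net.cons (nat_lit 8) (nat_lit 72) (Net.cons (nat_lit 4) (nat_lit 2816) (Net.cons (nat_lit 2) (nat_lit 13088) (Net.cons (nat_lit 1) (nat_lit 4113) Net.nil)))))))
noncomputable def NB_1 : Net := (Net.cons (nat_lit 1) (nat_lit 1024) (Net.cons (nat_lit 2) (nat_lit 544) (Net.cons (nat_lit 4) (nat_lit 1792) (Net.cons (nat_lit 8) (nat_lit 120) (Net.cons (nat_lit 4) (nat_lit 1802) (Net.cons (nat_lit 2) (nat_lit 12291) (Net.cons (nat_lit 1) (nat_lit 21504) Net.nil)))))))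
noncomputable def NB_2 : Net := (Net.cons (nat_lit 1) (nat_lit 4096) (Net.cons (nat_lit 2) (nat_lit 13088) (Net.cons (nat_lit 8) (nat_lit 204) (Net.cons (nat_lit 4) (nat_lit 2052) (Net.cons (nat_lit 2) (nat_lit 13072) (Net.cons (nat_lit 1) (nat_lit 341) Net.nil))))))
noncomputable def NB_3 : Net := (Net.cons (nat_lit 1) (nat_lit 1024) (Net.cons (nat_lit 2) (nat_lit 13088) (Net.cons (nat_lit 4) (nat_lit 1792) (Net.cons (nat_lit 8) (nat_lit 180) (Net.cons (nat_lit 4) (nat_lit 2054) (Net.cons (nat_lit 2) (nat_lit 35) (Net.cons (nat_lit 1) (nat_lit 4181) Net.nil)))))))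
noncomputable def NB_4 : Net := (Net.cons (nat_lit 1) (nat_lit 1024) (Net.cons (nat_lit 2) (nat_lit 528) (Net.cons (nat_lit 4) (nat_lit 768) (Net.cons (nat_lit 8) (nat_lit 60) (Net.cons (nat_lit 4) (nat_lit 783) (Net.cons (nat_lit 2) (nat_lit 12579) (Net.cons (nat_lit 1) (nat_lit 16641) Net.nil)))))))
noncomputable def NB_5 : Net := (Net.cons (nat_lit 2) (nat_lit 12544) (Net.cons (nat_lit 4) (nat_lit 2560) (Net.cons (nat_lit 8) (nat_lit 108) (Net.cons (nat_lit 4) (nat_lit 2562) (Net.cons (nat_lit 2) (nat_lit 257) (Net.cons (nat_lit 1) (nat_lit 20480) Net.nil))))))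
noncomputable def NB_6 : Net := (Net.cons (nat_lit 1) (nat_lit 16704) (Net.cons (nat_lit 2) (nat_lit 784) (Net.cons (nat_lit 4) (nat_lit 1280) (Net.cons (nat_lit 8) (nat_lit 182) (Net.cons (nat_lit 4) (nat_lit 271) (Net.cons (nat_lit 2) (nat_lit 8194) (Net.cons (nat_lit 1) (nat_lit 17745) Net.nil)))))))
noncomputable def NB : List Net := [NB_0, NB_1, NB_2, NB_3, NB_4, NB_5, NB_6]
noncomputable def NB1_0 : Net := (Net.cons (nat_lit 1) (nat_lit 5392) (Net.cons (nat_lit 2) (nat_lit 4368) (Net.cons (nat_lit 4) (nat_lit 2560) (Net.cons (nat_lit 8) (nat_lit 244) (Net.cons (nat_lit 4) (nat_lit 774) (Net.cons (nat_lit 2) (nat_lit 512) (Net.cons (nat_lit 1) (nat_lit 17492) Net.nil)))))))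
noncomputable def NB1_1 : Net := (Net.cons (nat_lit 1) (nat_lit 17424) (Net.cons (nat_lit 2) (nat_lit 4352) (Net.cons (nat_lit 4) (nat_lit 512) (Net.cons (nat_lit 8) (nat_lit 202) (Net.cons (nat_lit 4) (nat_lit 268) (Net.cons (nat_lit 2) (nat_lit 4882) (Net.cons (nat_lit 1) (nat_lit 21780) Net.nil)))))))
noncomputable def NB1_2 : Net := (Net.cons (nat_lit 1) (nat_lit 16452) (Net.cons (nat_lit 4) (nat_lit 256) (Net.cons (nat_lit 8) (nat_lit 20) (Net.cons (nat_lit 4) (nat_lit 262) (Net.cons (nat_lit 2) (nat_lit 4880) (Net.cons (nat_lit 1) (nat_lit 5124) Net.nil))))))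
noncomputable def NB1_3 : Net := (Net.cons (nat_lit 1) (nat_lit 1296) (Net.cons (nat_lit 2) (nat_lit 8192) (Net.cons (nat_lit 8) (nat_lit 58) (Net.cons (nat_lit 4) (nat_lit 514) (Net.cons (nat_lit 2) (nat_lit 8448) (Net.cons (nat_lit 1) (nat_lit 1360) Net.nil))))))
noncomputable def NB1_4 : Net := (Net.cons (nat_lit 1) (nat_lit 16640) (Net.cons (nat_lit 2) (nat_lit 800) (Net.cons (nat_lit 4) (nat_lit 1024) (Net.cons (nat_lit 8) (nat_lit 226) (Net.cons (nat_lit 4) (nat_lit 1538) (Net.cons (nat_lit 2) (nat_lit 12592) (Net.cons (nat_lit 1) (nat_lit 4352) Net.nil)))))))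
noncomputable def NB1 : List Net := [NB1_0, NB1_1, NB1_2, NB1_3, NB1_4]
noncomputable def SB : List (List Nat) := [[(nat_lit 4), (nat_lit 14), (nat_lit 11), (nat_lit 14), (nat_lit 9), (nat_lit 14), (nat_lit 10), (nat_lit 12), (nat_lit 5), (nat_lit 1)],
  [(nat_lit 8), (nat_lit 2), (nat_lit 3), (nat_lit 10), (nat_lit 1), (nat_lit 13), (nat_lit 11), (nat_lit 1), (nat_lit 13), (nat_lit 7)],
  [(nat_lit 18), (nat_lit 15), (nat_lit 18), (nat_lit 15), (nat_lit 17), (nat_lit 16)],
  [(nat_lit 18), (nat_lit 15), (nat_lit 15), (nat_lit 18), (nat_lit 16), (nat_lit 16), (nat_lit 18), (nat_lit 15)],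
  [(nat_lit 20), (nat_lit 22), (nat_lit 19), (nat_lit 21)]]
noncomputable def CB : List Lvl := [⟨(nat_lit 0), [[(nat_lit 1)],
  [(nat_lit 3)],
  [(nat_lit 5)],
  [(nat_lit 7)],
  [(nat_lit 9)],
  [(nat_lit 11)],
  [(nat_lit 13)]], (nat_lit 1)⟩,
  ⟨(nat_lit 2), [[(nat_lit 15)],
  [(nat_lit 17)]], (nat_lit 4)⟩,
  ⟨(nat_lit 3), [[(nat_lit 19)],
  [(nat_lit 21)]], (nat_lit 3)⟩,
  ⟨(nat_lit 1), [[(nat_lit 23)]], (nat_lit 2)⟩]
noncomputable def NM_0 : Net := (Net.cons (nat_lit 1) (nat_lit 0x4145501044155555440144554154544054540455105541101504455405111005401504) (Net.cons (nat_lit 2) (nat_lit 0x1010321330320203213102211112310323033231101231103221233203323211221200) (Net.cons (nat_lit 4) (nat_lit 0xf0b020f080c0808090e0d040c0e010f0c0f03060d080f08060007090a0303020b0a00) (Net.cons (nat_lit 8) (nat_lit 0x560028005300a0009200c60062002b00b6002800cf001e00fd00e2006b0064000d) (Net.cons (nat_lit 16) (nat_lit 0xe100001c2400001a450000ce1b0000628d0000c2340000418e0000a8290000e500) (Net.cons (nat_lit 32) (nat_lit 0x93fde269000000005cf5d43100000000010086250000000000c62001)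 (Net.cons (nat_lit 64) (nat_lit 0x4d07e6a584c05a2d0000000000000000000000000041d41d) (Net.cons (nat_lit 128) (nat_lit 12587541) (Net.cons (nat_lit 256) (nat_lit 16776989) (Net.cons (nat_lit 128) (nat_lit 0x8a140be514aed401c55bec1ab80c3de9) (Net.cons (nat_lit 64) (nat_lit 0x4b530e3d41fd0cee000000000000000047179a64167c929f) (Net.cons (nat_lit 32) (nat_lit 0x84bb0e41000000003c6ba01100000000940e9a4100000000a55b40f7) (Net.cons (nat_lit 16) (nat_lit 0xf0000093c60000c8250000e84b00002bcf0000c0310000438500000cae00005286) (Net.cons (nat_lit 8) (nat_lit 0x2e006d002100860054008800da008c0042002d00c9001b006d00c900eb00780099) (Net.cons (nat_lit 4) (nat_lit 0xe0a0c030d0b040c070a0f080b0a0b09080c0f040d0d0a05000d0603020707020b0802) (Net.cons (nat_lit 2) (nat_lit 0x2002001132200323213333133033020322003223101210020202231000333233311001) (Net.cons (nat_lit 1) (nat_lit 0x1145150145401011000145440100454150540005105555540540455440110454151101) Net.nil)))))))))))))))))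
noncomputable def NM_1 : Net := (Net.cons (nat_lit 1) (nat_lit 0x1140554014040040050405450054451005004410115151000011004150455115501110) (Net.cons (nat_lit 2) (nat_lit 0x333302131222020132200213130201120111112011010223202300333033330121110) (Net.cons (nat_lit 4) (nat_lit 0xb07030f040f01050707000c0a0e08090c00030f080105070109040a07010d00090000) (Net.cons (nat_lit 8) (nat_lit 0x2000b9006e00de004a000d00e6004500490027000e00dd00b300c90099004e) (Net.cons (nat_lit 16) (nat_lit 0xf40000d15200006c4a0000141f0000c1d60000b1480000eb5a0000003200007000) (Net.cons (nat_lit 32) (nat_lit 0xac503da5000000001d0d27fa000000005143086300000000002c3410) (Net.cons (nat_lit 64) (nat_lit 0x3f0e9180894b0b4200000000000000000000000000cc0a46) (Net.cons (nat_lit 128) (nat_lit 8021304) (Net.cons (nat_lit 256) (nat_lit 16744319) (Net.cons (nat_lit 128) (nat_lit 0x31d4b758004b96cd0e9b2ca19ddaac07) (Net.cons (nat_lit 64) (nat_lit 0x3357d1513d2087300000000000000000af106c66c6b87b59) (Net.cons (nat_lit 32) (nat_lit 0xe082902400000000a07099b2000000005edcd46100000000154ac5f1)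 (Net.cons (nat_lit 16) (nat_lit 0xb00000ad840000579e0000d82a0000c4f40000958c00004a120000ec5f00004c5d) (Net.cons (nat_lit 8) (nat_lit 0x2d004000140073008c002400fd008500d400600066008d00fc003c002700650021) (Net.cons (nat_lit 4) (nat_lit 0x80108010d07000d0306070800010b090e060e03060402020204040d0d0a00060f0a06) (Net.cons (nat_lit 2) (nat_lit 0x3233303112131231311100113303101232133300311012213001022110330011001311) (Net.cons (nat_lit 1) (nat_lit 0x5501410401414114401100104440544504011001551050110445400111454041501000) Net.nil)))))))))))))))))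
noncomputable def NM_2 : Net := (Net.cons (nat_lit 1) (nat_lit 0x5411555514401414001555011040100444015445051541410114414145515401450010) (Net.cons (nat_lit 2) (nat_lit 0x120003032231011020112121323033010330221101233332011023313221102101000) (Net.cons (nat_lit 4) (nat_lit 0x90207010b0006060b00070a010d0a0b08070c0a090a08000d0c0a050f080a080e0000) (Net.cons (nat_lit 8) (nat_lit 0x9f00a700b2006100060025008300a4009f0057000b0014004900630096001600a8) (Net.cons (nat_lit 16) (nat_lit 0x880000644d00004fa1000008100000c554000090f40000e93d00005e0800002300) (Net.cons (nat_lit 32) (nat_lit 0x59272da800000000f78c5280000000009003c5b00000000000804100) (Net.cons (nat_lit 64) (nat_lit 0x1c40c3103cea2b6200000000000000000000000000058a83) (Net.cons (nat_lit 128) (nat_lit 2233088) (Net.cons (nat_lit 256) (nat_lit 11009931) (Net.cons (nat_lit 128) (nat_lit 0x2109e490f86c036ddec1238846917e0a) (Net.cons (nat_lit 64) (nat_lit 0x1903f339acc6786a00000000000000000629874168770ab7) (Net.cons (nat_lit 32) (nat_lit 0xcd06283a00000000a5a00bf30000000087678c63000000005411ed59)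 (Net.cons (nat_lit 16) (nat_lit 0xaa000044b600006e2b0000fede000089dd000012160000bf69000076410000675b) (Net.cons (nat_lit 8) (nat_lit 0xdd0023006c008300aa009b008c00ac00d6004700cc0048000400c20087005400e2) (Net.cons (nat_lit 4) (nat_lit 0x9020c000305000d09030f05030e070c090e04090e0f020d0c02090d0609030d050606) (Net.cons (nat_lit 2) (nat_lit 0x2120021132110120100010003001013211031123211310233103133312323012221213) (Net.cons (nat_lit 1) (nat_lit 0x4451401501440450400014540114455444000505100051440100140140104055151455) Net.nil)))))))))))))))))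
noncomputable def NM_3 : Net := (Net.cons (nat_lit 1) (nat_lit 0x4454550454055400540054144505010414400445415511511140510144005444054554) (Net.cons (nat_lit 2) (nat_lit 0x1103223331131232130231132213012202102023013111302003310122003301013110) (Net.cons (nat_lit 4) (nat_lit 0x6030c0a07030f08010d0c07060903010d0c000c0903020d02000c090d020607000900) (Net.cons (nat_lit 8) (nat_lit 0x700bd00d60098008e002a008900fc00a8004a00ca0078004800b9001900360082) (Net.cons (nat_lit 16) (nat_lit 0xad000059020000eae80000edc800004010000048360000822b0000d00000000900) (Net.cons (nat_lit 32) (nat_lit 0x28a13c6200000000f4145b0b00000000590328760000000000087641) (Net.cons (nat_lit 64) (nat_lit 0x1c4cc05186a4e0a0000000000000000000000000020b426) (Net.cons (nat_lit 128) (nat_lit 10493672) (Net.cons (nat_lit 256) (nat_lit 11206639) (Net.cons (nat_lit 128) (nat_lit 0x4a8497573a40b82ef54849d0801bd2ec) (Net.cons (nat_lit 64) (nat_lit 0xa0659542ee42e47c00000000000000004734a306c8f3b8cb) (Net.cons (nat_lit 32) (nat_lit 0xde724cf2000000000a31adb300000000ae10e7c5000000000227cb33)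 (Net.cons (nat_lit 16) (nat_lit 0x540000e5560000b3b70000002e0000d4780000945700006c270000e43f00004d79) (Net.cons (nat_lit 8) (nat_lit 0xf900fa00c30065005c00a2003000dd00590068005f0075006100ea003e006800f8) (Net.cons (nat_lit 4) (nat_lit 0x6020a0e0a0a0e03050e0c0c0300040b090b0a02010304020d0c0d0b050908090d0d0a) (Net.cons (nat_lit 2) (nat_lit 0x3231102123313121030102033200330323000231202121003233302111132220321332) (Net.cons (nat_lit 1) (nat_lit 0x450150441015055144155014100005455044100050054515044554054110555054544) Net.nil)))))))))))))))))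
noncomputable def NM_4 : Net := (Net.cons (nat_lit 1) (nat_lit 0x1441155444041451001110441101504051151155501015455145015505455014040510) (Net.cons (nat_lit 2) (nat_lit 0x3112131323002310330012213332223103102333122012332320302310032100232010) (Net.cons (nat_lit 4) (nat_lit 0xd0207000e05080405050b020d090c060a0a07050904000507010101050f0607000300) (Net.cons (nat_lit 8) (nat_lit 0x9a0024007500230092004600b100d100b20058008100d800a9008800220010009c) (Net.cons (nat_lit 16) (nat_lit 0x900002d9d0000390d00002acb0000129200004ed00000b65c0000871000005100) (Net.cons (nat_lit 32) (nat_lit 0x549120cc000000000ce46393000000001093a47b000000000068092c) (Net.cons (nat_lit 64) (nat_lit 0x58b05d280272f00e00000000000000000000000000d402c3) (Net.cons (nat_lit 128) (nat_lit 3930774) (Net.cons (nat_lit 256) (nat_lit 16777215) (Net.cons (nat_lit 128) (nat_lit 0x588823514ca49ecfa3d5f4e4fa961e4) (Net.cons (nat_lit 64) (nat_lit 0x59d53452c0f0af690000000000000000f572b34e706f8eee) (Net.cons (nat_lit 32) (nat_lit 0xaca48360000000007a4c12a000000001dcc23bd00000000d2251f4f)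 (Net.cons (nat_lit 16) (nat_lit 0x80000041d40000b24000007f6900001d47000027d100002fa50000a3ec000047dc) (Net.cons (nat_lit 8) (nat_lit 0xac004b00dc005a005b004c00b90072004c0079006700de000c006400cc000400c2) (Net.cons (nat_lit 4) (nat_lit 0x3000c0006060e09020c0100070c020c040d060806090b0006050d0d020d010c0c0b05) (Net.cons (nat_lit 2) (nat_lit 0x2322300133310021201331200002130212020122131212213310331220303332221132) (Net.cons (nat_lit 1) (nat_lit 0x40545000541114005055455545015100555044540504051451154045545011514400) Net.nil)))))))))))))))))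
noncomputable def NM_5 : Net := (Net.cons (nat_lit 1) (nat_lit 0x5411141145005144011500405450050054554554515010414004041010440145454444) (Net.cons (nat_lit 2) (nat_lit 0x3221120321122223333130311223031312211000232130301303333012203322113310) (Net.cons (nat_lit 4) (nat_lit 0x70c08000804020e0c0c0f0e010c0f0906000f05020a01040606030306080400050300) (Net.cons (nat_lit 8) (nat_lit 0x3b007f00e4002400ec00b60093005d00d200ff004c007400db00e9001e002000ca) (Net.cons (nat_lit 16) (nat_lit 0xd2000048d80000516300000e59000030490000434200003c1e000087000000f000) (Net.cons (nat_lit 32) (nat_lit 0x71949a9a0000000071c2f44300000000663d06110000000000309851) (Net.cons (nat_lit 64) (nat_lit 0xba7b6d840064925900000000000000000000000000040024) (Net.cons (nat_lit 128) (nat_lit 5331516) (Net.cons (nat_lit 256) (nat_lit 7863295) (Net.cons (nat_lit 128) (nat_lit 0x36dfd7d6382493c48d24aa19c24b419f) (Net.cons (nat_lit 64) (nat_lit 0x709b574587361d940000000000000000780a089d00074582) (Net.cons (nat_lit 32) (nat_lit 0xd3c6e9f900000000c900e51400000000ef14f34d00000000360b7241)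 (Net.cons (nat_lit 16) (nat_lit 0x7a00004ade0000db79000004d30000b8610000875900007e370000e71800007e79) (Net.cons (nat_lit 8) (nat_lit 0x9000d5007e00b5006d0004003f0047008c004d006e004000db00e900b800080075) (Net.cons (nat_lit 4) (nat_lit 0xd0d070a0a0d0c060f08050403040f0a0e0601060c0c0e0401040b040c060f07050002) (Net.cons (nat_lit 2) (nat_lit 0x3221320321122203313130311223031332211000012330101303333032203322133310) (Net.cons (nat_lit 1) (nat_lit 0x5411141145005144011500405454050054554554515011454404041010440145454444) Net.nil)))))))))))))))))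
noncomputable def NM_6 : Net := (Net.cons (nat_lit 1) (nat_lit 0x4540055150514100505441544155414141441504415005001000551440404014054500) (Net.cons (nat_lit 2) (nat_lit 0x1020323020200121120110111210331111211121023013132101010211312101230020) (Net.cons (nat_lit 4) (nat_lit 0xa06040c050b080e0503070c080a02020c060f06060c060003000f04080a0a0a020800) (Net.cons (nat_lit 8) (nat_lit 0x4900bd00e5000c00af007e00270051000300a80097002700430051000600800018) (Net.cons (nat_lit 16) (nat_lit 0x2d0000506e0000560b0000c90d000072340000634e0000879b00000f1000008300) (Net.cons (nat_lit 32) (nat_lit 0x5520370500000000946639fd000000008bc2112c0000000000340a4a) (Net.cons (nat_lit 64) (nat_lit 0xd202c20da27e60180000000000000000000000000099e04c) (Net.cons (nat_lit 128) (nat_lit 13524832) (Net.cons (nat_lit 256) (nat_lit 16777215) (Net.cons (nat_lit 128) (nat_lit 0x187feaacbf304684cb6135c35540eb3f) (Net.cons (nat_lit 64) (nat_lit 0xe993a4d2f2f3ff370000000000000000ee5cc78d000edcdf) (Net.cons (nat_lit 32) (nat_lit 0x3dde3d7300000000c6bf7f9300000000c7969d8b000000003612d888)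 (Net.cons (nat_lit 16) (nat_lit 0x6e0000def00000964b00008a7b0000124100009865000051f3000080b3000034d0) (Net.cons (nat_lit 8) (nat_lit 0x900f200d2008c008600b1007100e500c000f100e500ab00d60041003000a900a6) (Net.cons (nat_lit 4) (nat_lit 0x606070c070c0e07030f09090a020d030b0f06020e050f07080a05000701040b060608) (Net.cons (nat_lit 2) (nat_lit 0x2331103012012321323031103220220013233323013331303323233332203231103222) (Net.cons (nat_lit 1) (nat_lit 0x4154504505115010445501451414000145450145514155140545040451500405414550) Net.nil)))))))))))))))))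
noncomputable def NM : List Net := [NM_0, NM_1, NM_2, NM_3, NM_4, NM_5, NM_6]
noncomputable def NM1_0 : Net := (Net.cons (nat_lit 1) (nat_lit 0x110110411141514414400405155444511450151144440150511405140154141400000) (Net.cons (nat_lit 2) (nat_lit 0x1033023133220222132232112000221232200133302003030031211333013223031130) (Net.cons (nat_lit 4) (nat_lit 0xf0c0f0c030c050c0f0204030c0a0205020d000501020802050a000b090a0509040800) (Net.cons (nat_lit 8) (nat_lit 0xaf009300af006d00ce001900e40019005000700065001600d3009d00d000cd0000) (Net.cons (nat_lit 16) (nat_lit 0x100006995000044ca00002fff0000ae3700009420000053230000019d00000900) (Net.cons (nat_lit 32) (nat_lit 0xed6a77a00000000476800930000000004d000f40000000000349618) (Net.cons (nat_lit 64) (nat_lit 0x3203228d05824900000000000000000000000000b15a2c) (Net.cons (nat_lit 128) (nat_lit 4568769) (Net.cons (nat_lit 256) (nat_lit 16646141) (Net.cons (nat_lit 128) (nat_lit 0xef2ea5faa1c0c9ee5c91ea407e1ac9c1) (Net.cons (nat_lit 64) (nat_lit 0x9080217df561c08b00000000000000003e153023ec961b76)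 (Net.cons (nat_lit 32) (nat_lit 0xc4cfa9b50000000003060b9c000000008cfa927d00000000c212f3aa) (Net.cons (nat_lit 16) (nat_lit 0xb90000a06e00000eb6000049890000deb00000450800000cdc0000717300006060) (Net.cons (nat_lit 8) (nat_lit 0x99004b00e20002006400d500f700f30011000a00990046003c00fb00bf00e500c2) (Net.cons (nat_lit 4) (nat_lit 0x80807000301000b070d0a00020c0a02030e0e0905030001060609040f0b020d05090e) (Net.cons (nat_lit 2) (nat_lit 0x2300202101201310300231130212013333310123201310231030200123021113311332) (Net.cons (nat_lit 1) (nat_lit 0x5010450051154551114410511454541000104155551401555104515454004445015444) Net.nil)))))))))))))))))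
noncomputable def NM1_1 : Net := (Net.cons (nat_lit 1) (nat_lit 0x5045450054550540105111545504510551110511545105040404104041055500440410) (Net.cons (nat_lit 2) (nat_lit 0x302323313010121031113220320202002122100012231333220101010010221333130) (Net.cons (nat_lit 4) (nat_lit 0x30c0d0a0b04060805000e06040b0506080f0a0f05050602050d0c000f0f0b06050900) (Net.cons (nat_lit 8) (nat_lit 0x8d008b001c002c00d000860054002d009600020095009b001c00d600460084000b) (Net.cons (nat_lit 16) (nat_lit 0x9a000096c300002200000093c10000cee100001fc10000118b00000e0b00004a00) (Net.cons (nat_lit 32) (nat_lit 0x697a1e4300000000a603c72100000000241249130000000000354627) (Net.cons (nat_lit 64) (nat_lit 0x94561501021818ca00000000000000000000000000c44815) (Net.cons (nat_lit 128) (nat_lit 8034793) (Net.cons (nat_lit 256) (nat_lit 16769023) (Net.cons (nat_lit 128) (nat_lit 0x81ee87176a8fb2e33e1130041910d151) (Net.cons (nat_lit 64) (nat_lit 0x2911566d3a9254cf000000000000000012f3fb20760d50bb) (Net.cons (nat_lit 32) (nat_lit 0xe455e34700000000cbcbbe08000000002726061900000000cf20b688)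 (Net.cons (nat_lit 16) (nat_lit 0xbf0000b5a8000094070000bdbb0000e0a50000d78000009c530000a35b00007a16) (Net.cons (nat_lit 8) (nat_lit 0x3100f9008300e600a1001700d700c500d90034008000be0055002a004600a800a1) (Net.cons (nat_lit 4) (nat_lit 0xa02050c0300040c080e010905050600020800080b03090f020b080505050f00000b06) (Net.cons (nat_lit 2) (nat_lit 0x1111122112011202022112220311130222213212303302130113010030333233031302) (Net.cons (nat_lit 1) (nat_lit 0x5511515041545500504141541004045411545141105511555140551504450105441504) Net.nil)))))))))))))))))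
noncomputable def NM1_2 : Net := (Net.cons (nat_lit 1) (nat_lit 0x5441014450141551141144515014550415145011011051115510011015000111400400) (Net.cons (nat_lit 2) (nat_lit 0x3103122301201210001033221303023113210011300001321013323312012101031100) (Net.cons (nat_lit 4) (nat_lit 0x7040c0f000206060e0406070f0105070001080e03020005010e020a000e07040300) (Net.cons (nat_lit 8) (nat_lit 0x2800700031006400ca002e008c008b003200000083007100bf00a50068005a0013) (Net.cons (nat_lit 16) (nat_lit 0xa50000d3ea000020880000684100000a4400003d92000011250000450c00006500) (Net.cons (nat_lit 32) (nat_lit 0x66dcbcb700000000683c12a50000000000c141c20000000000c62761) (Net.cons (nat_lit 64) (nat_lit 0x1040b05c6b0008800000000000000000000000000026351b) (Net.cons (nat_lit 128) (nat_lit 4327568) (Net.cons (nat_lit 256) (nat_lit 15106047) (Net.cons (nat_lit 128) (nat_lit 0xbb370af8ef02460080edf1078013de61) (Net.cons (nat_lit 64) (nat_lit 0x37d527a4121a59e7000000000000000035d468e2a8327e9b) (Net.cons (nat_lit 32) (nat_lit 0x388dc4900000000427fa47800000000f42e4c670000000040f1322e)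 (Net.cons (nat_lit 16) (nat_lit 0x9a00007e680000f1c7000041310000cf3a0000de5f00002dc60000320f0000f1db) (Net.cons (nat_lit 8) (nat_lit 0x2700ea003900ee00d400a6002300d0003600b800b700ae00ae00ac0050002800f7) (Net.cons (nat_lit 4) (nat_lit 0x3090508060a0a040d09080a030b070c0f040a0f0b0f05060f07030005080e0d090208) (Net.cons (nat_lit 2) (nat_lit 0x3100000131222232300023302321331133322003223103001232331333133000322110) (Net.cons (nat_lit 1) (nat_lit 0x5051001454051015501110045014545410111400155541440054055044011551554414) Net.nil)))))))))))))))))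
noncomputable def NM1_3 : Net := (Net.cons (nat_lit 1) (nat_lit 0x1550144500455555404454115540105441444054104400155151005410054454140100) (Net.cons (nat_lit 2) (nat_lit 0x3002122122031002223003010003210333020303331111111312021031110033012010) (Net.cons (nat_lit 4) (nat_lit 0x60c07090806040e02070408040908060f0e07070f00020d04020d030902070b080900) (Net.cons (nat_lit 8) (nat_lit 0xd3000200a6000300f3000c00e700ca00d600b200aa004800850078007200d800d4) (Net.cons (nat_lit 16) (nat_lit 0xe0000981b000066da00002ded000042c300002d0900003c0200004c480000d500) (Net.cons (nat_lit 32) (nat_lit 0x55a290800000000265f20ac00000000003068ae0000000000e36873) (Net.cons (nat_lit 64) (nat_lit 0xea34b1200d20d48e00000000000000000000000000d2e605) (Net.cons (nat_lit 128) (nat_lit 2567564) (Net.cons (nat_lit 256) (nat_lit 16252927) (Net.cons (nat_lit 128) (nat_lit 0x75893271d5a0edc18abf8d8ce865369b) (Net.cons (nat_lit 64) (nat_lit 0xc4a9627895c76fb400000000000000006a574e34e450e24a) (Net.cons (nat_lit 32) (nat_lit 0xe8193fb200000000519ebf0200000000efde7d8b000000009007427f)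 (Net.cons (nat_lit 16) (nat_lit 0x7d0000cfe2000010dd0000dd9c0000a9b30000fdcb000048df0000355f000013b0) (Net.cons (nat_lit 8) (nat_lit 0xeb003900050056006200d000b700a700c900ea003b00be00cc00a3006c003100e0) (Net.cons (nat_lit 4) (nat_lit 0xe0206010c01030e0c040b030c0d000c010e050801040205050e08060908080e060e04) (Net.cons (nat_lit 2) (nat_lit 0x110312122312032202300213120201233222303000323321233321033210202220210) (Net.cons (nat_lit 1) (nat_lit 0x1514545111014445511445045101051100414514414505444545554554455040445114) Net.nil)))))))))))))))))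
noncomputable def NM1 : List Net := [NM1_0, NM1_1, NM1_2, NM1_3]
noncomputable def WM : List (List Nat) := [[(nat_lit 1), (nat_lit 3), (nat_lit 1), (nat_lit 4), (nat_lit 5), (nat_lit 5), (nat_lit 5), (nat_lit 5), (nat_lit 11), (nat_lit 9), (nat_lit 12), (nat_lit 9)],
  [(nat_lit 4), (nat_lit 4), (nat_lit 2), (nat_lit 2), (nat_lit 3), (nat_lit 5), (nat_lit 7), (nat_lit 7), (nat_lit 6), (nat_lit 11), (nat_lit 10), (nat_lit 12), (nat_lit 9)],
  [(nat_lit 3), (nat_lit 1), (nat_lit 3), (nat_lit 3), (nat_lit 2), (nat_lit 6), (nat_lit 6), (nat_lit 6), (nat_lit 8), (nat_lit 10)],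
  [(nat_lit 4), (nat_lit 1), (nat_lit 7), (nat_lit 7), (nat_lit 6), (nat_lit 8), (nat_lit 10)],
  [(nat_lit 4), (nat_lit 1), (nat_lit 3), (nat_lit 3), (nat_lit 1), (nat_lit 8), (nat_lit 5), (nat_lit 5), (nat_lit 12), (nat_lit 9), (nat_lit 9)],
  [(nat_lit 1), (nat_lit 1), (nat_lit 4), (nat_lit 4), (nat_lit 1), (nat_lit 3), (nat_lit 7), (nat_lit 6), (nat_lit 8), (nat_lit 6), (nat_lit 7), (nat_lit 12), (nat_lit 9), (nat_lit 11), (nat_lit 9)],
  [(nat_lit 2), (nat_lit 4), (nat_lit 1), (nat_lit 1), (nat_lit 3), (nat_lit 2), (nat_lit 7), (nat_lit 6), (nat_lit 7), (nat_lit 5), (nat_lit 5), (nat_lit 7)]]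
noncomputable def SM : List (List Nat) := [[(nat_lit 2), (nat_lit 6), (nat_lit 8), (nat_lit 1), (nat_lit 13)],
  [(nat_lit 4), (nat_lit 13), (nat_lit 5), (nat_lit 8), (nat_lit 3), (nat_lit 7), (nat_lit 6), (nat_lit 13), (nat_lit 6), (nat_lit 7)],
  [(nat_lit 15), (nat_lit 17), (nat_lit 16), (nat_lit 18), (nat_lit 15), (nat_lit 17), (nat_lit 16), (nat_lit 18), (nat_lit 18)],
  [(nat_lit 18), (nat_lit 15), (nat_lit 17), (nat_lit 17), (nat_lit 15), (nat_lit 17), (nat_lit 16), (nat_lit 18), (nat_lit 18), (nat_lit 16), (nat_lit 17)]]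
noncomputable def CM : List Lvl := [⟨(nat_lit 0), [[(nat_lit 1)],
  [(nat_lit 3)],
  [(nat_lit 5)],
  [(nat_lit 7)],
  [(nat_lit 9)],
  [(nat_lit 11)],
  [(nat_lit 13)]], (nat_lit 4)⟩,
  ⟨(nat_lit 1), [[(nat_lit 15)],
  [(nat_lit 17)]], (nat_lit 10)⟩,
  ⟨(nat_lit 2), [[(nat_lit 19)],
  [(nat_lit 21)]], (nat_lit 5)⟩]

end CF.Recog.U43
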