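import Cfsg.Agent.Cod.Defs

set_option autoImplicit false
set_option maxRecDepth 1000000
set_option maxHeartbeats 0
set_option Elab.async false

namespace CF.Recog.U43

open CF.Comp CF.Cod

noncomputable def RK : List (List Nat) := [[(nat_lit 1), (nat_lit 1), (nat_lit 1)],
  [(nat_lit 1), (nat_lit 3), (nat_lit 1), (nat_lit 3), (nat_lit 1), (nat_lit 3)],
  [(nat_lit 3), (nat_lit 3), (nat_lit 1), (nat_lit 4), (nat_lit 4), (nat_lit 2)],
  [(nat_lit 3), (nat_lit 3), (nat_lit 3), (nat_lit 3)],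
  [(nat_lit 5), (nat_lit 5), (nat_lit 5)],
  [(nat_lit 5), (nat_lit 7), (nat_lit 5), (nat_lit 7), (nat_lit 5), (nat_lit 7)],
  [(nat_lit 3), (nat_lit 3), (nat_lit 8), (nat_lit 8)],
  [(nat_lit 1), (nat_lit 5), (nat_lit 2), (nat_lit 6)],
  [(nat_lit 1), (nat_lit 7), (nat_lit 2), (nat_lit 8)],
  [(nat_lit 3), (nat_lit 5), (nat_lit 4), (nat_lit 6)],
  [(nat_lit 3), (nat_lit 7), (nat_lit 4), (nat_lit 8)]]
noncomputable def RL : List (List Nat) := [[(nat_lit 1), (nat_lit 1), (nat_lit 1)],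
  [(nat_lit 1), (nat_lit 3), (nat_lit 1), (nat_lit 3), (nat_lit 1), (nat_lit 3)],
  [(nat_lit 3), (nat_lit 3), (nat_lit 1), (nat_lit 4), (nat_lit 4), (nat_lit 2)],
  [(nat_lit 3), (nat_lit 3), (nat_lit 3), (nat_lit 3)],
  [(nat_lit 5), (nat_lit 5), (nat_lit 5)],
  [(nat_lit 5), (nat_lit 7), (nat_lit 5), (nat_lit 7), (nat_lit 5), (nat_lit 7)],
  [(nat_lit 3), (nat_lit 3), (nat_lit 8), (nat_lit 8)],
  [(nat_lit 1), (nat_lit 5), (nat_lit 2), (nat_lit 6)],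
  [(nat_lit 1), (nat_lit 7), (nat_lit 2), (nat_lit 8)],
  [(nat_lit 3), (nat_lit 5), (nat_lit 4), (nat_lit 6)],
  [(nat_lit 3), (nat_lit 7), (nat_lit 4), (nat_lit 8)],
  [(nat_lit 9), (nat_lit 9)],
  [(nat_lit 11), (nat_lit 11)],
  [(nat_lit 9), (nat_lit 1), (nat_lit 9), (nat_lit 6)],
  [(nat_lit 9), (nat_lit 3), (nat_lit 9), (nat_lit 8)],
  [(nat_lit 11), (nat_lit 1), (nat_lit 11), (nat_lit 1)],
  [(nat_lit 11), (nat_lit 3), (nat_lit 11), (nat_lit 3)],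
  [(nat_lit 11), (nat_lit 5), (nat_lit 11), (nat_lit 6)],
  [(nat_lit 11), (nat_lit 7), (nat_lit 11), (nat_lit 8)],
  [(nat_lit 9), (nat_lit 11), (nat_lit 9), (nat_lit 11), (nat_lit 9), (nat_lit 11), (nat_lit 9), (nat_lit 11)]]
noncomputable def RH : List (List Nat) := [[(nat_lit 1), (nat_lit 1), (nat_lit 1)],
  [(nat_lit 1), (nat_lit 3), (nat_lit 1), (nat_lit 3), (nat_lit 1), (nat_lit 3)],
  [(nat_lit 3), (nat_lit 3), (nat_lit 1), (nat_lit 4), (nat_lit 4), (nat_lit 2)],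
  [(nat_lit 3), (nat_lit 3), (nat_lit 3), (nat_lit 3)],
  [(nat_lit 5), (nat_lit 5), (nat_lit 5)],
  [(nat_lit 5), (nat_lit 7), (nat_lit 5), (nat_lit 7), (nat_lit 5), (nat_lit 7)],
  [(nat_lit 3), (nat_lit 3), (nat_lit 8), (nat_lit 8)],
  [(nat_lit 1), (nat_lit 5), (nat_lit 2), (nat_lit 6)],
  [(nat_lit 1), (nat_lit 7), (nat_lit 2), (nat_lit 8)],
  [(nat_lit 3), (nat_lit 5), (nat_lit 4), (nat_lit 6)],
  [(nat_lit 3), (nat_lit 7), (nat_lit 4), (nat_lit 8)],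
  [(nat_lit 9), (nat_lit 9), (nat_lit 8), (nat_lit 4)],
  [(nat_lit 11), (nat_lit 11)],
  [(nat_lit 9), (nat_lit 11), (nat_lit 9), (nat_lit 11)],
  [(nat_lit 9), (nat_lit 1), (nat_lit 10), (nat_lit 3), (nat_lit 1)],
  [(nat_lit 9), (nat_lit 3), (nat_lit 10), (nat_lit 4)],
  [(nat_lit 9), (nat_lit 5), (nat_lit 10), (nat_lit 5), (nat_lit 7)],
  [(nat_lit 9), (nat_lit 7), (nat_lit 10), (nat_lit 8)],
  [(nat_lit 11), (nat_lit 1), (nat_lit 11), (nat_lit 6)],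
  [(nat_lit 11), (nat_lit 3), (nat_lit 11), (nat_lit 8)],
  [(nat_lit 11), (nat_lit 5), (nat_lit 11), (nat_lit 2)],
  [(nat_lit 11), (nat_lit 7), (nat_lit 11), (nat_lit 4)]]
noncomputable def RR : List (List Nat) := [[(nat_lit 1), (nat_lit 1)],
  [(nat_lit 3), (nat_lit 3)],
  [(nat_lit 5), (nat_lit 5)],
  [(nat_lit 7), (nat_lit 7)],
  [(nat_lit 1), (nat_lit 5), (nat_lit 1), (nat_lit 5)],
  [(nat_lit 3), (nat_lit 7), (nat_lit 3), (nat_lit 7)],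
  [(nat_lit 1), (nat_lit 3), (nat_lit 1), (nat_lit 5), (nat_lit 3), (nat_lit 7), (nat_lit 5), (nat_lit 7)],
  [(nat_lit 1), (nat_lit 3), (nat_lit 5), (nat_lit 3), (nat_lit 5), (nat_lit 7), (nat_lit 1), (nat_lit 7)]]
noncomputable def RA0 : List (List Nat) := [[(nat_lit 1), (nat_lit 1)],
  [(nat_lit 3), (nat_lit 3)],
  [(nat_lit 5), (nat_lit 5)],
  [(nat_lit 7), (nat_lit 7)],
  [(nat_lit 1), (nat_lit 5), (nat_lit 1), (nat_lit 5)],
  [(nat_lit 3), (nat_lit 7), (nat_lit 3), (nat_lit 7)],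
  [(nat_lit 1), (nat_lit 3), (nat_lit 1), (nat_lit 5), (nat_lit 3), (nat_lit 7), (nat_lit 5), (nat_lit 7)],
  [(nat_lit 1), (nat_lit 3), (nat_lit 5), (nat_lit 3), (nat_lit 5), (nat_lit 7), (nat_lit 1), (nat_lit 7)],
  [(nat_lit 11), (nat_lit 11), (nat_lit 11)],
  [(nat_lit 5), (nat_lit 11), (nat_lit 5), (nat_lit 12)],
  [(nat_lit 1), (nat_lit 3), (nat_lit 12), (nat_lit 9), (nat_lit 11)],
  [(nat_lit 1), (nat_lit 3), (nat_lit 9), (nat_lit 11), (nat_lit 10), (nat_lit 12)],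
  [(nat_lit 3), (nat_lit 7), (nat_lit 10), (nat_lit 11), (nat_lit 7), (nat_lit 11)]]
noncomputable def RAy : List (List Nat) := [[(nat_lit 13), (nat_lit 13), (nat_lit 13)],
  [(nat_lit 13), (nat_lit 1), (nat_lit 14), (nat_lit 5)],
  [(nat_lit 13), (nat_lit 3), (nat_lit 14), (nat_lit 7)],
  [(nat_lit 13), (nat_lit 5), (nat_lit 14), (nat_lit 5), (nat_lit 1)],
  [(nat_lit 13), (nat_lit 7), (nat_lit 14), (nat_lit 7), (nat_lit 3)],
  [(nat_lit 9), (nat_lit 13), (nat_lit 9), (nat_lit 13), (nat_lit 1), (nat_lit 7), (nat_lit 5), (nat_lit 1)],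
  [(nat_lit 13), (nat_lit 11), (nat_lit 13), (nat_lit 11), (nat_lit 13), (nat_lit 11), (nat_lit 13), (nat_lit 11), (nat_lit 13), (nat_lit 11)],
  [(nat_lit 12), (nat_lit 13), (nat_lit 12), (nat_lit 13), (nat_lit 12), (nat_lit 13), (nat_lit 12), (nat_lit 13), (nat_lit 12), (nat_lit 13), (nat_lit 12), (nat_lit 13), (nat_lit 12), (nat_lit 13), (nat_lit 12), (nat_lit 13)]]
noncomputable def RB0 : List (List Nat) := [[(nat_lit 1), (nat_lit 1)],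
  [(nat_lit 3), (nat_lit 3)],
  [(nat_lit 5), (nat_lit 5)],
  [(nat_lit 7), (nat_lit 7)],
  [(nat_lit 1), (nat_lit 5), (nat_lit 1), (nat_lit 5)],
  [(nat_lit 3), (nat_lit 7), (nat_lit 3), (nat_lit 7)],
  [(nat_lit 1), (nat_lit 3), (nat_lit 1), (nat_lit 5), (nat_lit 3), (nat_lit 7), (nat_lit 5), (nat_lit 7)],
  [(nat_lit 1), (nat_lit 3), (nat_lit 5), (nat_lit 3), (nat_lit 5), (nat_lit 7), (nat_lit 1), (nat_lit 7)],
  [(nat_lit 11), (nat_lit 11), (nat_lit 11)],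
  [(nat_lit 5), (nat_lit 11), (nat_lit 5), (nat_lit 11)],
  [(nat_lit 1), (nat_lit 3), (nat_lit 12), (nat_lit 9), (nat_lit 11)],
  [(nat_lit 1), (nat_lit 5), (nat_lit 9), (nat_lit 5), (nat_lit 9)],
  [(nat_lit 3), (nat_lit 7), (nat_lit 12), (nat_lit 7), (nat_lit 11)]]
noncomputable def RBy : List (List Nat) := [[(nat_lit 13), (nat_lit 13), (nat_lit 13)],
  [(nat_lit 13), (nat_lit 1), (nat_lit 14), (nat_lit 5)],
  [(nat_lit 13), (nat_lit 3), (nat_lit 14), (nat_lit 7)],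
  [(nat_lit 13), (nat_lit 5), (nat_lit 14), (nat_lit 5), (nat_lit 1)],
  [(nat_lit 13), (nat_lit 7), (nat_lit 14), (nat_lit 7), (nat_lit 3)],
  [(nat_lit 9), (nat_lit 13), (nat_lit 9), (nat_lit 13), (nat_lit 1), (nat_lit 7), (nat_lit 5), (nat_lit 1)],
  [(nat_lit 13), (nat_lit 12), (nat_lit 13), (nat_lit 12), (nat_lit 13), (nat_lit 12), (nat_lit 13), (nat_lit 12), (nat_lit 13), (nat_lit 12)],
  [(nat_lit 11), (nat_lit 13), (nat_lit 11), (nat_lit 13), (nat_lit 11), (nat_lit 13), (nat_lit 11), (nat_lit 13), (nat_lit 11), (nat_lit 13), (nat_lit 11), (nat_lit 13), (nat_lit 11), (nat_lit 13), (nat_lit 11), (nat_lit 13)]]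
noncomputable def hA : List (List Nat) := [[(nat_lit 1), (nat_lit 3), (nat_lit 2), (nat_lit 5), (nat_lit 7), (nat_lit 6)],
  [(nat_lit 3), (nat_lit 1), (nat_lit 3), (nat_lit 2), (nat_lit 5), (nat_lit 7), (nat_lit 6)],
  [(nat_lit 11)],
  [(nat_lit 9), (nat_lit 11)],
  [(nat_lit 1), (nat_lit 3), (nat_lit 2)],
  [(nat_lit 1), (nat_lit 5)],
  [(nat_lit 13)]]
noncomputable def hB : List (List Nat) := [[(nat_lit 1), (nat_lit 3), (nat_lit 2), (nat_lit 5), (nat_lit 7), (nat_lit 6)],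
  [(nat_lit 3), (nat_lit 1), (nat_lit 3), (nat_lit 2), (nat_lit 5), (nat_lit 7), (nat_lit 6)],
  [(nat_lit 11)],
  [(nat_lit 9), (nat_lit 11)],
  [(nat_lit 1), (nat_lit 3), (nat_lit 2)],
  [(nat_lit 1), (nat_lit 6)],
  [(nat_lit 13)]]
noncomputable def RG : List (List Nat) := [[(nat_lit 1), (nat_lit 1), (nat_lit 1)],
  [(nat_lit 1), (nat_lit 3), (nat_lit 1), (nat_lit 3), (nat_lit 1), (nat_lit 3)],
  [(nat_lit 3), (nat_lit 3), (nat_lit 1), (nat_lit 4), (nat_lit 4), (nat_lit 2)],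
  [(nat_lit 3), (nat_lit 3), (nat_lit 3), (nat_lit 3)],
  [(nat_lit 5), (nat_lit 5), (nat_lit 5)],
  [(nat_lit 5), (nat_lit 7), (nat_lit 5), (nat_lit 7), (nat_lit 5), (nat_lit 7)],
  [(nat_lit 3), (nat_lit 3), (nat_lit 8), (nat_lit 8)],
  [(nat_lit 1), (nat_lit 5), (nat_lit 2), (nat_lit 6)],
  [(nat_lit 1), (nat_lit 7), (nat_lit 2), (nat_lit 8)],
  [(nat_lit 3), (nat_lit 5), (nat_lit 4), (nat_lit 6)],
  [(nat_lit 3), (nat_lit 7), (nat_lit 4), (nat_lit 8)],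
  [(nat_lit 9), (nat_lit 9), (nat_lit 8), (nat_lit 4)],
  [(nat_lit 11), (nat_lit 11)],
  [(nat_lit 9), (nat_lit 11), (nat_lit 9), (nat_lit 11)],
  [(nat_lit 9), (nat_lit 1), (nat_lit 10), (nat_lit 3), (nat_lit 1)],
  [(nat_lit 9), (nat_lit 3), (nat_lit 10), (nat_lit 4)],
  [(nat_lit 9), (nat_lit 5), (nat_lit 10), (nat_lit 5), (nat_lit 7)],
  [(nat_lit 9), (nat_lit 7), (nat_lit 10), (nat_lit 8)],
  [(nat_lit 11), (nat_lit 1), (nat_lit 11), (nat_lit 6)],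
  [(nat_lit 11), (nat_lit 3), (nat_lit 11), (nat_lit 8)],
  [(nat_lit 11), (nat_lit 5), (nat_lit 11), (nat_lit 2)],
  [(nat_lit 11), (nat_lit 7), (nat_lit 11), (nat_lit 4)],
  [(nat_lit 13), (nat_lit 13), (nat_lit 13)],
  [(nat_lit 13), (nat_lit 1), (nat_lit 3), (nat_lit 2), (nat_lit 5), (nat_lit 7), (nat_lit 6), (nat_lit 14), (nat_lit 11)],
  [(nat_lit 13), (nat_lit 3), (nat_lit 1), (nat_lit 3), (nat_lit 2), (nat_lit 5), (nat_lit 7), (nat_lit 6), (nat_lit 14), (nat_lit 9), (nat_lit 11)],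
  [(nat_lit 13), (nat_lit 11), (nat_lit 14), (nat_lit 11), (nat_lit 1), (nat_lit 3), (nat_lit 2), (nat_lit 5), (nat_lit 7), (nat_lit 6)],
  [(nat_lit 13), (nat_lit 9), (nat_lit 11), (nat_lit 14), (nat_lit 9), (nat_lit 11), (nat_lit 3), (nat_lit 1), (nat_lit 3), (nat_lit 2), (nat_lit 5), (nat_lit 7), (nat_lit 6)],
  [(nat_lit 1), (nat_lit 3), (nat_lit 2), (nat_lit 13), (nat_lit 1), (nat_lit 3), (nat_lit 2), (nat_lit 13), (nat_lit 1), (nat_lit 3), (nat_lit 2), (nat_lit 5), (nat_lit 7), (nat_lit 6), (nat_lit 9), (nat_lit 11), (nat_lit 11), (nat_lit 1), (nat_lit 3), (nat_lit 2), (nat_lit 5), (nat_lit 7), (nat_lit 6)],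
  [(nat_lit 13), (nat_lit 1), (nat_lit 5), (nat_lit 13), (nat_lit 1), (nat_lit 5), (nat_lit 13), (nat_lit 1), (nat_lit 5), (nat_lit 13), (nat_lit 1), (nat_lit 5), (nat_lit 13), (nat_lit 1), (nat_lit 5)],
  [(nat_lit 6), (nat_lit 2), (nat_lit 13), (nat_lit 6), (nat_lit 2), (nat_lit 13), (nat_lit 6), (nat_lit 2), (nat_lit 13), (nat_lit 6), (nat_lit 2), (nat_lit 13), (nat_lit 6), (nat_lit 2), (nat_lit 13), (nat_lit 6), (nat_lit 2), (nat_lit 13), (nat_lit 6), (nat_lit 2), (nat_lit 13), (nat_lit 6), (nat_lit 2), (nat_lit 13)],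
  [(nat_lit 13), (nat_lit 5), (nat_lit 2), (nat_lit 13), (nat_lit 5), (nat_lit 2), (nat_lit 13), (nat_lit 5), (nat_lit 2), (nat_lit 13), (nat_lit 5), (nat_lit 2), (nat_lit 13), (nat_lit 5), (nat_lit 2)],
  [(nat_lit 1), (nat_lit 6), (nat_lit 13), (nat_lit 1), (nat_lit 6), (nat_lit 13), (nat_lit 1), (nat_lit 6), (nat_lit 13), (nat_lit 1), (nat_lit 6), (nat_lit 13), (nat_lit 1), (nat_lit 6), (nat_lit 13), (nat_lit 1), (nat_lit 6), (nat_lit 13), (nat_lit 1), (nat_lit 6), (nat_lit 13), (nat_lit 1), (nat_lit 6), (nat_lit 13)],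
  [(nat_lit 1), (nat_lit 3), (nat_lit 2), (nat_lit 13), (nat_lit 5), (nat_lit 2), (nat_lit 14), (nat_lit 1), (nat_lit 3), (nat_lit 2), (nat_lit 1), (nat_lit 5), (nat_lit 1), (nat_lit 4), (nat_lit 2), (nat_lit 13), (nat_lit 1), (nat_lit 6), (nat_lit 14), (nat_lit 1), (nat_lit 4), (nat_lit 2), (nat_lit 1), (nat_lit 5), (nat_lit 1), (nat_lit 3), (nat_lit 2), (nat_lit 13), (nat_lit 5), (nat_lit 2), (nat_lit 14), (nat_lit 1), (nat_lit 3), (nat_lit 2), (nat_lit 6), (nat_lit 2), (nat_lit 1), (nat_lit 4), (nat_lit 2), (nat_lit 13), (nat_lit 1), (nat_lit 6), (nat_lit 14), (nat_lit 1), (nat_lit 4), (nat_lit 2), (nat_lit 6), (nat_lit 2)]]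
noncomputable def hAr : List (List Nat) := [[(nat_lit 13)],
  [(nat_lit 1), (nat_lit 5)],
  [(nat_lit 1), (nat_lit 3), (nat_lit 2)],
  [(nat_lit 9), (nat_lit 11)],
  [(nat_lit 11)],
  [(nat_lit 3), (nat_lit 1), (nat_lit 3), (nat_lit 2), (nat_lit 5), (nat_lit 7), (nat_lit 6)],
  [(nat_lit 1), (nat_lit 3), (nat_lit 2), (nat_lit 5), (nat_lit 7), (nat_lit 6)]]
noncomputable def imY : List (List Nat) := [[(nat_lit 5)],
  [(nat_lit 7)],
  [(nat_lit 1), (nat_lit 5)],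
  [(nat_lit 3), (nat_lit 7)]]
noncomputable def RA : List (List Nat) := lapp RA0 RAy
noncomputable def RB : List (List Nat) := lapp RB0 RBy

end CF.Recog.U43
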